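import Cfsg.Agent.CN7.MaxNil
import Cfsg.Agent.CN7.CNTheorem
import Cfsg.Agent.CharDeep.CC.Main
import Cfsg.Agent.Lib.Zassenhaus.KernelPrimePow
import Cfsg.Agent.Lib.Frobenius.Kernel

/-!
# In a simple CN-group the centraliser of an involution is a 2-group

A maximal nilpotent subgroup `M` which is not of prime power order contains the centraliser of each
of its non-identity elements; if it has even order it gives a Zassenhaus group with kernel `M`,
and such a kernel has prime power order.
-/

set_option autoImplicit false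
set_option linter.style.haveILetI false

namespace Cfsg.Agent.CNCit80

open Subgroup CN7
open scoped Pointwise

theorem centralizer_isPGroup_two {G : Type*} [Group G] [Finite G] [IsSimpleGroup G]
    (hna : ∃ a b : G, a * b ≠ b * a) (hCN : Cfsg.IsCNGroup G) (t : G) (ht : orderOf t = 2) :
    IsPGroup 2 (centralizer ({t} : Set G)) := by
  classical
  haveI h2f : Fact (Nat.Prime 2) := ⟨Nat.prime_two⟩
  have ht1 : t ≠ 1 := fun e => by rw [e, orderOf_one] at ht; omega
  obtain ⟨M, hM, hCM⟩ := exists_isMaxNil (hCN t ht1)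
  have htM : t ∈ M := hCM (mem_centralizer_singleton_iff.2 rfl)
  by_cases hpp : IsPrimePow (Nat.card M)
  · obtain ⟨p, k, hp, hk, hpk⟩ := (isPrimePow_nat_iff _).1 hpp
    have h2 : 2 ∣ Nat.card M := ht ▸ orderOf_dvd_natCard M htM
    rw [← hpk] at h2
    obtain rfl : 2 = p := (Nat.prime_dvd_prime_iff_eq Nat.prime_two hp).1 (Nat.prime_two.dvd_of_dvd_pow h2)
    exact (IsPGroup.of_card (n := k) hpk.symm).to_le hCM
  exfalso
  have hM1 : Nat.card M ≠ 1 := fun e => ht1 (by
    have h2 := orderOf_dvd_natCard M htM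
    rw [e] at h2
    exact orderOf_eq_one_iff.1 (Nat.dvd_one.1 h2))
  have hMb : M ≠ ⊥ := fun e => hM1 (by rw [e]; exact card_bot)
  have hTI := hM.isTI_of_not_isPrimePow hCN hpp hM1
  have hcl : ∀ x ∈ M, x ≠ 1 → centralizer ({x} : Set G) ≤ M := fun x hx hx1 =>
    hM.centralizer_le hCN hTI hx hx1
  -- an involution in the centre of `M`
  have h2M : 2 ∣ Nat.card M := ht ▸ orderOf_dvd_natCard M htM
  obtain ⟨S, hS⟩ := hM.exists_sylow_le hCN (p := 2) h2M
  obtain ⟨z, hzS, hz1, hzc⟩ := exists_center_mem (K := (S : Subgroup G)) S.2.isNilpotent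
    (IsMaxNil.sylow_ne_bot h2M S)
  obtain ⟨k, hk⟩ := exists_orderOf_prime_pow S.2 hzS
  obtain ⟨k', rfl⟩ : ∃ k', k = k' + 1 := Nat.exists_eq_succ_of_ne_zero fun e => hz1 (by
    rw [e, pow_zero] at hk; exact orderOf_eq_one_iff.1 hk)
  set s := z ^ 2 ^ k' with hs
  have hso : orderOf s = 2 := by
    rw [hs, orderOf_pow' z (pow_ne_zero k' two_ne_zero), hk, pow_succ,
      Nat.gcd_mul_right_left, Nat.mul_div_cancel_left _ (pow_pos two_pos k')]
  have hsc : s ∈ centralizer (M : Set G) :=
    hM.mem_centralizer_of_sylow hS (pow_mem hzS _) (pow_mem hzc _)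
  have hs1 : s ≠ 1 := fun e => by rw [e, orderOf_one] at hso; omega
  have hCs : CharDeep.CA.cent s = M := hM.eq_centralizer hCN hs1 hsc
  have hMtop : M ≠ ⊤ := by
    intro e
    have := hM.1
    rw [e] at this
    haveI : Group.IsNilpotent G := Group.isNilpotent_top.1 this
    obtain ⟨a, b, hab⟩ := hna
    exact hab ((IsSimpleGroup.comm_iff_isSolvable (G := G)).2 inferInstance a b)
  have hMn : ¬ M.Normal := fun hn => (hn.eq_bot_or_eq_top).elim hMb hMtop
  have hne : normalizer (M : Set G) ≠ M := by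
    intro hN
    have hF : Cfsg.IsFrobeniusComplement M := by
      refine ⟨hMb, hMtop, fun g hg => hTI g fun he => hg ?_⟩
      rw [← hN, mem_normalizer_iff]
      intro y
      constructor
      · intro hy
        rw [← he]
        exact ⟨y, hy, rfl⟩
      · intro hy
        rw [← he] at hy
        obtain ⟨w, hw, hwy⟩ := hy
        rwa [← mul_left_cancel (mul_right_cancel (show g * w * g⁻¹ = g * y * g⁻¹ from hwy))]
    obtain ⟨N, -, hNn, hNc⟩ := Frobenius.exists_frobeniusKernel_subgroup hF
    rcases hNn.eq_bot_or_eq_top with hb | hb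
    · have h3 := hNc.sup_eq_top
      rw [hb, bot_sup_eq] at h3
      exact hMtop h3
    · have h3 := hNc.disjoint.eq_bot
      rw [hb, top_inf_eq] at h3
      exact hMb h3
  have D : CharDeep.CC.Data G s :=
    { sub := fun a ha ha1 => by
        rw [hCs] at ha ⊢
        exact hcl a ha ha1
      t_ne := hs1
      t_sq := by rw [← pow_two, ← hso, pow_orderOf_eq_one]
      sylow := ⟨S, hCs.symm ▸ hS⟩
      ne_top := fun e => hMn (normalizer_eq_top_iff.1 (by rw [hCs] at e; exact e))
      ne_cent := fun e => hne (by rw [hCs] at e; exact e) }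
  obtain ⟨-, hZ, -, hU, b, hab, hT⟩ := CharDeep.CC.zassenhaus D
  haveI := Fintype.ofFinite G
  haveI := Fintype.ofFinite (G ⧸ CharDeep.CA.nrm s)
  have hodd : Odd (Nat.card ↥(CharDeep.Zass.two G
      (QuotientGroup.mk 1 : G ⧸ CharDeep.CA.nrm s) b)) := by
    rw [hT]
    refine Nat.not_even_iff_odd.1 fun he => ?_
    have h1 : (CharDeep.CA.cent s).relIndex (CharDeep.CA.nrm s) ∣ (S : Subgroup G).index :=
      (relIndex_dvd_index_of_le (CharDeep.CA.cent_le_nrm s)).trans
        (index_dvd_of_le (hCs.symm ▸ hS))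
    exact S.not_dvd_index ((even_iff_two_dvd.1 he).trans h1)
  have := ZassNormal.isPrimePow_kernel hZ hab hU hodd
  rw [hCs] at this
  exact hpp this

end Cfsg.Agent.CNCit80
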