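import Cfsg.Agent.PGraphCIT.Almost
import Cfsg.Agent.Lib.Suzuki.AutSylow
import Cfsg.Agent.Lib.Suzuki.Tori
import Cfsg.Agent.Lib.Suzuki.Centralizers
import Cfsg.Agent.Lib.Suzuki.Sylow

/-!
# A CIT-group with a normal Suzuki subgroup of trivial index

An automorphism of `Sz(q)` of prime order cannot avoid centralising an element of odd order or an
involution together with an element of odd order.
-/

set_option autoImplicit false
set_option linter.style.haveILetI false

namespace Cfsg.Agent.CNCit80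

open Subgroup PGraphCIT

variable {X : Type*} [Group X] [Finite X]

/-- The normaliser of `T` is `H` times the centraliser of `z`; so a CIT-group is no bigger than `N`. -/
theorem eq_top_of_torus (hcit : IsCIT X) (N : Subgroup X) [N.Normal] (T : Sylow 2 N)
    {Z H : Subgroup X} (hZT : Z ≤ (T : Subgroup N).map N.subtype)
    (hZn : ∀ b ∈ normalizer (((T : Subgroup N).map N.subtype : Subgroup X) : Set X),
      ∀ z ∈ Z, b * z * b⁻¹ ∈ Z)
    (hZc : ∀ t ∈ (T : Subgroup N).map N.subtype, ∀ z ∈ Z, Commute t z)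
    (hZ2 : ∀ z ∈ Z, z * z = 1) (hZcard : 5 ≤ Nat.card Z)
    (hHN : H ≤ N) (hHodd : Odd (Nat.card H))
    (hHn : H ≤ normalizer (((T : Subgroup N).map N.subtype : Subgroup X) : Set X))
    (htrans : ∀ z ∈ Z, z ≠ 1 → ∀ w ∈ Z, w ≠ 1 → ∃ h ∈ H, h * z * h⁻¹ = w)
    (hdec : ∀ g ∈ N, g ∈ normalizer (((T : Subgroup N).map N.subtype : Subgroup X) : Set X) →
      ∃ t ∈ (T : Subgroup N).map N.subtype, ∃ h ∈ H, g = t * h) :
    N = ⊤ := by
  classical
  haveI : Fact (Nat.Prime 2) := ⟨Nat.prime_two⟩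
  set P : Subgroup X := (T : Subgroup N).map N.subtype with hP
  set B : Subgroup X := normalizer (P : Set X) with hB
  have hPp : IsPGroup 2 P := T.2.map _
  have hPN : P ≤ N := map_subtype_le _
  obtain ⟨z, hz, hz1⟩ := Z.bot_or_exists_ne_one.resolve_left fun e => by
    rw [e, card_bot] at hZcard; omega
  set C : Subgroup X := centralizer ({z} : Set X) ⊓ B with hC
  have hzo : orderOf z = 2 := orderOf_eq_prime (by rw [pow_two]; exact hZ2 z hz) hz1
  have hC2 : IsPGroup 2 C := (hcit z hzo).to_le inf_le_left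
  by_contra hne
  -- some element of `C` lies outside `N`
  obtain ⟨c, hcC, hcN⟩ : ∃ c ∈ C, c ∉ N := by
    by_contra hall
    push Not at hall
    refine hne (eq_top_iff.2 ?_)
    rw [← Sylow.normalizer_sup_eq_top T]
    refine sup_le (fun b hb => ?_) le_rfl
    obtain ⟨h, hh, hhz⟩ := htrans z hz hz1 (b * z * b⁻¹) (hZn b hb z hz)
      (fun e => hz1 (conj_eq_one_iff.1 e))
    have hmem : h⁻¹ * b ∈ C := by
      refine mem_inf.2 ⟨mem_centralizer_singleton_iff.2 ?_, mul_mem (inv_mem (hHn hh)) hb⟩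
      calc h⁻¹ * b * z = h⁻¹ * (b * z * b⁻¹) * b := by group
        _ = z * (h⁻¹ * b) := by rw [← hhz]; group
    have := mul_mem (hHN hh) (hall _ hmem)
    rwa [mul_inv_cancel_left] at this
  -- replace it by one whose square lies in `N`
  obtain ⟨v, hvC, hvN, hv2⟩ : ∃ v ∈ C, v ∉ N ∧ v * v ∈ N := by
    obtain ⟨k, hk⟩ := hC2 ⟨c, hcC⟩
    have hk' : c ^ 2 ^ k ∈ N := by
      rw [show c ^ 2 ^ k = 1 from congrArg Subtype.val hk]; exact one_mem N
    clear hk
    induction k with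
    | zero => exact absurd (by simpa using hk') hcN
    | succ k ih =>
      by_cases h : c ^ 2 ^ k ∈ N
      · exact ih h
      · exact ⟨c ^ 2 ^ k, pow_mem hcC _, h, by rwa [← pow_add, ← two_mul, ← pow_succ']⟩
  have hvz : v * z * v⁻¹ = z := by
    rw [mem_centralizer_singleton_iff.1 hvC.1, mul_inv_cancel_right]
  have hPC : P ≤ C := fun t ht =>
    ⟨mem_centralizer_singleton_iff.2 (hZc t ht z hz).eq, le_normalizer ht⟩
  -- only `1` and `z` are fixed by `v` in `Z`
  have hfix : ∀ w ∈ Z, v * w * v⁻¹ = w → w = 1 ∨ w = z := by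
    intro w hw hvw
    refine or_iff_not_imp_left.2 fun hw1 => ?_
    obtain ⟨h, hh, rfl⟩ := htrans z hz hz1 w hw hw1
    by_cases hh1 : h = 1
    · rw [hh1]; group
    exfalso
    have hhodd : Odd (orderOf h) := hHodd.of_dvd_nat (orderOf_dvd_natCard H hh)
    set g := h⁻¹ * (v * h * v⁻¹) with hg
    have hgN : g ∈ N :=
      mul_mem (inv_mem (hHN hh)) (Normal.conj_mem inferInstance h (hHN hh) v)
    have hgz : Commute g z := by
      show g * z = z * g
      calc g * z = g * (v * z * v⁻¹) := by rw [hvz]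
        _ = h⁻¹ * (v * (h * z * h⁻¹) * v⁻¹) * v * h * v⁻¹ := by rw [hg]; group
        _ = h⁻¹ * (h * z * h⁻¹) * v * h * v⁻¹ := by rw [hvw]
        _ = z * g := by rw [hg]; group
    have hgB : g ∈ B := mul_mem (inv_mem (hHn hh))
      (mul_mem (mul_mem hvC.2 (hHn hh)) (inv_mem hvC.2))
    obtain ⟨t, ht, h', hh', hgth⟩ := hdec g hgN hgB
    have hh'1 : h' = 1 := by
      refine hcit.eq_one hzo ?_ (hHodd.of_dvd_nat (orderOf_dvd_natCard H hh'))
      have h1 : Commute (t⁻¹ * g) z := ((hZc t ht z hz).inv_left).mul_left hgz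
      rw [hgth, inv_mul_cancel_left] at h1
      exact h1.symm
    rw [hh'1, mul_one] at hgth
    -- every element of `hP` is conjugate to `h` under `P`
    have hinj : Function.Injective fun s : P =>
        (⟨h⁻¹ * (s : X) * h * (s : X)⁻¹, mul_mem (by
          have := (mem_normalizer_iff.1 (inv_mem (hHn hh)) s).1 s.2
          rwa [inv_inv] at this) (inv_mem s.2)⟩ : P) := by
      intro s s' e
      have e1 : h⁻¹ * (s : X) * h * (s : X)⁻¹ = h⁻¹ * (s' : X) * h * (s' : X)⁻¹ :=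
        congrArg Subtype.val e
      rw [mul_assoc, mul_assoc, mul_assoc (h⁻¹ * (s' : X)), mul_assoc (h⁻¹ : X)] at e1
      have e2 : (s : X) * (h * (s : X)⁻¹) = (s' : X) * (h * (s' : X)⁻¹) :=
        mul_left_cancel (a := h⁻¹) (by simpa [mul_assoc] using e1)
      by_contra hss
      refine hh1 (hcit.eq_one_of_mem_twoGroup hPp (v := (s' : X)⁻¹ * (s : X))
        (mul_mem (inv_mem s'.2) s.2) (fun e3 => hss (Subtype.ext (inv_mul_eq_one.1 e3).symm)) ?_ hhodd)
      show (s' : X)⁻¹ * (s : X) * h = h * ((s' : X)⁻¹ * (s : X))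
      calc (s' : X)⁻¹ * (s : X) * h = (s' : X)⁻¹ * ((s : X) * (h * (s : X)⁻¹)) * (s : X) := by group
        _ = h * ((s' : X)⁻¹ * (s : X)) := by rw [e2]; group
    obtain ⟨s, hs⟩ := (Finite.injective_iff_surjective.1 hinj) ⟨t, ht⟩
    have hs' : h⁻¹ * (s : X) * h * (s : X)⁻¹ = t := congrArg Subtype.val hs
    have hc : Commute ((s : X)⁻¹ * v) h := by
      show (s : X)⁻¹ * v * h = h * ((s : X)⁻¹ * v)
      have hvh : v * h * v⁻¹ = (s : X) * h * (s : X)⁻¹ := by
        calc v * h * v⁻¹ = h * g := by rw [hg]; group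
          _ = (s : X) * h * (s : X)⁻¹ := by rw [hgth, ← hs']; group
      calc (s : X)⁻¹ * v * h = (s : X)⁻¹ * (v * h * v⁻¹) * v := by group
        _ = h * ((s : X)⁻¹ * v) := by rw [hvh]; group
    exact hh1 (hcit.eq_one_of_mem_twoGroup hC2 (mul_mem (inv_mem (hPC s.2)) hvC)
      (fun e => hvN (by rw [← inv_mul_eq_one.1 e]; exact hPN s.2)) hc hhodd)
  -- `v` induces an involutory automorphism of the elementary abelian `Z`
  have hv2P : ∀ w ∈ Z, v * v * w * (v * v)⁻¹ = w := by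
    obtain ⟨t, ht, h, hh, e⟩ := hdec (v * v) hv2 (mul_mem hvC.2 hvC.2)
    have hvv : Commute (v * v) z :=
      (show Commute v z from mem_centralizer_singleton_iff.1 hvC.1).mul_left
        (mem_centralizer_singleton_iff.1 hvC.1)
    have h1 : Commute (t⁻¹ * (v * v)) z := ((hZc t ht z hz).inv_left).mul_left hvv
    rw [e, inv_mul_cancel_left] at h1
    have hh1 := hcit.eq_one hzo h1.symm (hHodd.of_dvd_nat (orderOf_dvd_natCard H hh))
    intro w hw
    rw [e, hh1, mul_one, (hZc t ht w hw).eq, mul_inv_cancel_right]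
  have hcomm : ∀ a ∈ Z, ∀ b ∈ Z, Commute a b := fun a ha b hb => hZc a (hZT ha) b hb
  have hmem : ∀ w : Z, (w : X) * (v * w * v⁻¹) ∈ ({1, z} : Finset X) := by
    intro w
    have hw' : v * (w : X) * v⁻¹ ∈ Z := hZn v hvC.2 w w.2
    have hfx : v * ((w : X) * (v * w * v⁻¹)) * v⁻¹ = (w : X) * (v * w * v⁻¹) := by
      calc v * ((w : X) * (v * w * v⁻¹)) * v⁻¹
            = (v * w * v⁻¹) * (v * v * w * (v * v)⁻¹) := by group
        _ = (w : X) * (v * w * v⁻¹) := by rw [hv2P w w.2]; exact (hcomm _ hw' _ w.2).eq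
    rcases hfix _ (mul_mem w.2 hw') hfx with e | e <;> simp [e]
  haveI := Fintype.ofFinite Z
  have hfibre : ∀ a ∈ ({1, z} : Finset X),
      (Finset.univ.filter fun w : Z => (w : X) * (v * w * v⁻¹) = a).card ≤ 2 := by
    intro a _
    rcases (Finset.univ.filter fun w : Z => (w : X) * (v * w * v⁻¹) = a).eq_empty_or_nonempty
      with e | ⟨w₀, hw₀⟩
    · simp [e]
    refine le_trans (Finset.card_le_card_of_injOn (fun w => ((w₀ : X) * w)) (t := {1, z}) ?_
      fun w _ w' _ e => Subtype.ext (mul_left_cancel e)) Finset.card_le_two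
    intro w hw
    simp only [Finset.coe_filter, Finset.mem_univ, true_and, Set.mem_setOf_eq] at hw
    rw [Finset.mem_filter] at hw₀
    have hfx : v * ((w₀ : X) * w) * v⁻¹ = (w₀ : X) * w := by
      have e1 : v * (w₀ : X) * v⁻¹ = (w₀ : X) * a := by
        rw [← hw₀.2, ← mul_assoc, hZ2 _ w₀.2, one_mul]
      have e2 : v * (w : X) * v⁻¹ = (w : X) * a := by
        rw [← hw, ← mul_assoc, hZ2 _ w.2, one_mul]
      have haZ : a ∈ Z := hw ▸ mul_mem w.2 (hZn v hvC.2 w w.2)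
      calc v * ((w₀ : X) * w) * v⁻¹ = (v * (w₀ : X) * v⁻¹) * (v * (w : X) * v⁻¹) := by group
        _ = (w₀ : X) * (a * w) * a := by rw [e1, e2]; group
        _ = (w₀ : X) * w * (a * a) := by rw [(hcomm a haZ _ w.2).eq]; group
        _ = (w₀ : X) * w := by rw [hZ2 a haZ, mul_one]
    rcases hfix _ (mul_mem w₀.2 w.2) hfx with e | e <;> simp [e]
  have := Finset.card_le_mul_card_image_of_maps_to (s := (Finset.univ : Finset Z))
    (f := fun w : Z => (w : X) * (v * w * v⁻¹)) (t := {1, z}) (fun w _ => hmem w) 2 hfibre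
  rw [Finset.card_univ, ← Nat.card_eq_fintype_card] at this
  have h2 : ({1, z} : Finset X).card ≤ 2 := Finset.card_le_two
  omega

/-- A CIT-group with a normal subgroup isomorphic to a Suzuki group is that subgroup. -/
theorem eq_top_of_suzuki (hcit : IsCIT X) (N : Subgroup X) [N.Normal] {F : Type*} [Field F]
    [Fintype F] {m : ℕ} (hm : 1 ≤ m) (hF : Fintype.card F = 2 ^ (2 * m + 1))
    (e : N ≃* Cfsg.Sz F m) : N = ⊤ := by
  classical
  haveI : Fact (Nat.Prime 2) := ⟨Nat.prime_two⟩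
  set f : Cfsg.Sz F m →* N := e.symm.toMonoidHom with hf
  have hfi : Function.Injective f := e.symm.injective
  set T₀ : Subgroup N := (Suzuki.USub hF).map f with hT₀
  have hT₀p : IsPGroup 2 T₀ := (Suzuki.isPGroup_USub hF).map f
  have hT₀i : ¬ 2 ∣ T₀.index := by
    rw [hT₀, index_map_of_bijective (f := f) e.symm.bijective]
    exact Suzuki.index_USub_odd hF hm
  set T : Sylow 2 N := hT₀p.toSylow hT₀i with hT
  have hTc : (T : Subgroup N) = T₀ := IsPGroup.toSylow_coe _ _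
  set g : Cfsg.Sz F m →* X := N.subtype.comp f with hg
  have hgi : Function.Injective g := N.subtype_injective.comp hfi
  have hP : (T : Subgroup N).map N.subtype = (Suzuki.USub hF).map g := by
    rw [hTc, hT₀, map_map]
  have hZU : Suzuki.ZSub hF ≤ Suzuki.USub hF := fun x ⟨b, hb⟩ => ⟨0, b, hb⟩
  have hcen : ∀ x ∈ Suzuki.USub hF, x ∈ Suzuki.ZSub hF ↔ ∀ y ∈ Suzuki.USub hF, y * x = x * y := by
    intro x hx
    have h := Suzuki.center_USub hF hm
    constructor
    · intro hxz y hy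
      have h1 : (⟨x, hx⟩ : Suzuki.USub hF) ∈ center (Suzuki.USub hF) := by
        rw [h]; exact hxz
      exact congrArg Subtype.val (mem_center_iff.1 h1 ⟨y, hy⟩)
    · intro hall
      have h1 : (⟨x, hx⟩ : Suzuki.USub hF) ∈ center (Suzuki.USub hF) :=
        mem_center_iff.2 fun y => Subtype.ext (hall y y.2)
      rw [h] at h1
      exact h1
  set H : Subgroup X := (Suzuki.THom hF).range.map g with hH
  have hHnorm : ∀ k : Fˣ, Suzuki.T hF k ∈ normalizer ((Suzuki.USub hF : Subgroup _) : Set (Cfsg.Sz F m)) := by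
    intro k
    rw [Suzuki.normalizer_USub hF hm]
    exact Suzuki.T_smul_inf hF k
  refine eq_top_of_torus hcit N T (Z := (Suzuki.ZSub hF).map g) (H := H) ?_ ?_ ?_ ?_ ?_ ?_ ?_ ?_ ?_ ?_
  · rw [hP]; exact map_mono hZU
  · rw [hP]
    rintro b hb _ ⟨x, hx, rfl⟩
    obtain ⟨y, hy, hyx⟩ := (mem_normalizer_iff.1 hb (g x)).1 ⟨x, hZU hx, rfl⟩
    refine ⟨y, (hcen y hy).2 fun w hw => hgi ?_, hyx⟩
    obtain ⟨u, hu, hu'⟩ := (mem_normalizer_iff.1 (inv_mem hb) (g w)).1 ⟨w, hw, rfl⟩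
    rw [inv_inv] at hu'
    have hxu : g u * g x = g x * g u := by
      rw [← map_mul, ← map_mul, (hcen x (hZU hx)).1 hx u hu]
    rw [map_mul, map_mul, hyx]
    calc g w * (b * g x * b⁻¹) = b * ((b⁻¹ * g w * b) * g x) * b⁻¹ := by group
      _ = b * (g x * (b⁻¹ * g w * b)) * b⁻¹ := by rw [← hu', hxu]
      _ = b * g x * b⁻¹ * g w := by group
  · rw [hP]
    rintro _ ⟨u, hu, rfl⟩ _ ⟨x, hx, rfl⟩
    show g u * g x = g x * g u
    rw [← map_mul, ← map_mul, (hcen x (hZU hx)).1 hx u hu]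
  · rintro _ ⟨_, ⟨b, rfl⟩, rfl⟩
    rw [← map_mul, Suzuki.U_mul]
    have h2 : (b : F) + b = 0 := by
      have := Suzuki.add_self hF b
      exact this
    simp [h2, Suzuki.U_zero hF]
  · rw [← Nat.card_congr (equivMapOfInjective _ _ hgi).toEquiv, Suzuki.card_ZSub hF]
    calc 5 ≤ 2 ^ 3 := by norm_num
      _ ≤ 2 ^ (2 * m + 1) := Nat.pow_le_pow_right two_pos (by omega)
  · rintro _ ⟨x, -, rfl⟩
    exact (f x).2
  · rw [hH, ← Nat.card_congr (equivMapOfInjective _ _ hgi).toEquiv, Suzuki.card_range_T hF, hF]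
    exact Nat.Even.sub_odd (Nat.one_le_pow _ _ two_pos) (by simp [Nat.even_pow]) odd_one
  · rw [hP]
    rintro _ ⟨_, ⟨k, rfl⟩, rfl⟩
    refine mem_normalizer_of_conj ?_
    rintro _ ⟨u, hu, rfl⟩
    exact ⟨_, (mem_normalizer_iff.1 (hHnorm k) u).1 hu, by rw [map_mul, map_mul, map_inv]; rfl⟩
  · rintro _ ⟨_, ⟨b, rfl⟩, rfl⟩ hb _ ⟨_, ⟨c, rfl⟩, rfl⟩ hc
    have hb0 : b ≠ 0 := fun h => hb (by rw [h, Suzuki.U_zero hF, map_one])
    have hc0 : c ≠ 0 := fun h => hc (by rw [h, Suzuki.U_zero hF, map_one])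
    obtain ⟨k, hk⟩ := Suzuki.sigNorm_surjective hF (c / b)
    simp only at hk
    have hk0 : k ≠ 0 := fun h => by
      rw [h, mul_zero] at hk
      exact div_ne_zero hc0 hb0 hk.symm
    refine ⟨_, ⟨_, ⟨Units.mk0 k hk0, rfl⟩, rfl⟩, ?_⟩
    rw [← map_inv, ← map_mul, ← map_mul]
    congr 1
    show Suzuki.T hF _ * _ * (Suzuki.T hF _)⁻¹ = _
    rw [Suzuki.T_conj_U, mul_zero, Units.val_mk0,
      show k * Suzuki.sig m k * b = c by rw [mul_comm k, hk, div_mul_cancel₀ c hb0]]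
  · rw [hP]
    intro x hxN hx
    obtain ⟨y, hy⟩ : ∃ y, g y = x := ⟨e ⟨x, hxN⟩, by simp [hg, hf]⟩
    subst hy
    have hyn : y ∈ normalizer ((Suzuki.USub hF : Subgroup _) : Set (Cfsg.Sz F m)) := by
      refine mem_normalizer_of_conj fun u hu => ?_
      obtain ⟨u', hu', e'⟩ := (mem_normalizer_iff.1 hx (g u)).1 ⟨u, hu, rfl⟩
      rw [← map_inv, ← map_mul, ← map_mul] at e'
      rwa [← hgi e']
    rw [Suzuki.normalizer_USub hF hm] at hyn
    obtain ⟨a, b, k, rfl⟩ := Suzuki.eq_U_T_of_fix hF hm y hyn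
    exact ⟨g (Suzuki.U hF a b), ⟨_, ⟨a, b, rfl⟩, rfl⟩, g (Suzuki.T hF k), ⟨_, ⟨k, rfl⟩, rfl⟩,
      map_mul g _ _⟩

end Cfsg.Agent.CNCit80
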