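import Cfsg.Prelude.Def_Sz
import Mathlib

/-!
# The Suzuki groups over isomorphic fields
-/

set_option autoImplicit false

namespace Cfsg.Agent.CNCit80

open scoped MatrixGroups Matrix

variable {F K : Type*} [Field F] [Field K]

/-- The map on `GL₄` induced by a field isomorphism. -/
noncomputable def glCongr (j : F ≃+* K) : GL (Fin 4) F ≃* GL (Fin 4) K :=
  Units.mapEquiv j.mapMatrix.toMulEquiv

theorem glCongr_coe (j : F ≃+* K) (g : GL (Fin 4) F) :
    ((glCongr j g : GL (Fin 4) K) : Matrix (Fin 4) (Fin 4) K) = (g : Matrix (Fin 4) (Fin 4) F).map j :=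
  rfl

theorem glCongr_gen (j : F ≃+* K) (e : ℕ) {g : GL (Fin 4) F}
    (hg : g ∈ Cfsg.Lie.Sp4 F ∧ Cfsg.Lie.star4 (g : Matrix (Fin 4) (Fin 4) F) =
      (g : Matrix (Fin 4) (Fin 4) F).map (fun x => x ^ e)) :
    glCongr j g ∈ Cfsg.Lie.Sp4 K ∧ Cfsg.Lie.star4 (glCongr j g : Matrix (Fin 4) (Fin 4) K) =
      (glCongr j g : Matrix (Fin 4) (Fin 4) K).map (fun x => x ^ e) := by
  refine ⟨fun u v => ?_, ?_⟩
  · have h := congrArg j (hg.1 (fun i => j.symm (u i)) (fun i => j.symm (v i)))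
    simp only [Units.coeHom_apply, Cfsg.Lie.altForm4, map_add, map_mul, Matrix.mulVec, dotProduct,
      map_sum, RingEquiv.apply_symm_apply] at h
    simp only [Units.coeHom_apply, glCongr_coe, Cfsg.Lie.altForm4, Matrix.mulVec, dotProduct,
      Matrix.map_apply]
    exact h
  · ext p r
    have h := congrArg j (congrFun (congrFun hg.2 p) r)
    simp only [Cfsg.Lie.star4, Matrix.of_apply, Matrix.map_apply, map_sub, map_mul, map_pow] at h
    simp only [Cfsg.Lie.star4, Matrix.of_apply, Matrix.map_apply, glCongr_coe]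
    exact h

theorem map_sz (j : F ≃+* K) (e : ℕ) :
    (Cfsg.Lie.Sz F e).map (glCongr j).toMonoidHom = Cfsg.Lie.Sz K e := by
  unfold Cfsg.Lie.Sz
  rw [MonoidHom.map_closure]
  refine congrArg Subgroup.closure (Set.Subset.antisymm ?_ fun g hg => ?_)
  · rintro _ ⟨g, hg, rfl⟩
    exact glCongr_gen j e hg
  · have hinv : glCongr j (glCongr j.symm g) = g :=
      Units.ext (Matrix.ext fun a b => by simp [glCongr_coe])
    exact ⟨glCongr j.symm g, glCongr_gen j.symm e hg, hinv⟩

/-- Suzuki groups over isomorphic fields are isomorphic. -/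
theorem nonempty_szCongr (j : F ≃+* K) (e : ℕ) :
    Nonempty (Cfsg.Lie.Sz F e ≃* Cfsg.Lie.Sz K e) :=
  ⟨((Cfsg.Lie.Sz F e).equivMapOfInjective (glCongr j).toMonoidHom (glCongr j).injective).trans
    (MulEquiv.subgroupCongr (map_sz j e))⟩

end Cfsg.Agent.CNCit80
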