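import Cfsg.Agent.CIT.Main
import Cfsg.Agent.PGraphCIT.Main
import Cfsg.Agent.CNCit80.SzAut
import Cfsg.Agent.CNCit80.SzCongr
import Cfsg.Agent.Lib.RankOne.SzBridge

/-!
# Groups with the prime graph of a Suzuki group
-/

set_option autoImplicit false
set_option linter.style.haveILetI false

namespace Cfsg.Agent.CNCit80

open Subgroup

section model

variable {F : Type*} [Field F] [Fintype F] {m : ℕ} (hF : Fintype.card F = 2 ^ (2 * m + 1))
include hF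

theorem sz_card (hm : 1 ≤ m) :
    Nat.card (Cfsg.Lie.Sz F (2 ^ (m + 1))) =
      (2 ^ (2 * m + 1)) ^ 2 * ((2 ^ (2 * m + 1)) ^ 2 + 1) * (2 ^ (2 * m + 1) - 1) :=
  (Nat.card_congr (RankOne.SzBridge.szEquiv hF hm).toEquiv).symm.trans (Suzuki.card_Sz hF hm)

theorem orderOf_T_dvd {g : Cfsg.Sz F m} (hg : g ∈ (Suzuki.THom hF).range) :
    orderOf g ∣ 2 ^ (2 * m + 1) - 1 := by
  rw [← hF, ← Suzuki.card_range_T hF]
  exact orderOf_dvd_natCard _ hg

theorem orderOf_U_two_pow {g : Cfsg.Sz F m} (hg : g ∈ Suzuki.USub hF) :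
    ∃ k, orderOf g = 2 ^ k :=
  CIT.two_pow_of_isPGroup (Suzuki.isPGroup_USub hF) hg

/-- No element of the model has order `a * b`, for two primes, `b` odd and the classes of `a`, `b`
not both the toral one. -/
theorem no_order_mul (hm : 1 ≤ m) {a b : ℕ} (ha : a.Prime) (hb : b.Prime) (hb2 : b ≠ 2)
    (haq : ¬ a ∣ (2 ^ (2 * m + 1)) ^ 2 + 1) (hbq : a ≠ 2 → ¬ b ∣ 2 ^ (2 * m + 1) - 1) :
    ¬ ∃ x : Cfsg.Sz F m, orderOf x = a * b := by
  haveI : Fact (Nat.Prime 2) := ⟨Nat.prime_two⟩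
  rintro ⟨x, hx⟩
  have hy : orderOf (x ^ b) = a := by
    rw [orderOf_pow, hx, Nat.gcd_eq_right (dvd_mul_left b a), Nat.mul_div_cancel _ hb.pos]
  have hz : orderOf (x ^ a) = b := by
    rw [orderOf_pow, hx, Nat.gcd_eq_right (dvd_mul_right a b), Nat.mul_div_cancel_left _ ha.pos]
  have hy1 : x ^ b ≠ 1 := fun e => ha.ne_one (by rw [← hy, e, orderOf_one])
  have hconj : ∀ (u h : Cfsg.Sz F m), x ^ b = h * u * h⁻¹ →
      orderOf u = a ∧ h⁻¹ * x ^ a * h ∈ centralizer ({u} : Set (Cfsg.Sz F m)) ∧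
        orderOf (h⁻¹ * x ^ a * h) = b := by
    intro u h e
    refine ⟨?_, ?_, ?_⟩
    · rw [← hy, e, Involution.orderOf_conj]
    · refine mem_centralizer_singleton_iff.2 ?_
      have hc : x ^ a * x ^ b = x ^ b * x ^ a := ((Commute.refl x).pow_pow a b).eq
      rw [e] at hc
      calc h⁻¹ * x ^ a * h * u = h⁻¹ * (x ^ a * (h * u * h⁻¹)) * h := by group
        _ = h⁻¹ * ((h * u * h⁻¹) * x ^ a) * h := by rw [hc]
        _ = u * (h⁻¹ * x ^ a * h) := by group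
    · rw [← hz]
      have h1 := Involution.orderOf_conj h⁻¹ (x ^ a)
      rwa [inv_inv] at h1
  rcases Suzuki.classify hF hm hy1 with hf | ⟨c, d, h, hu, e⟩ | ⟨k, h, hk, e⟩
  · exact haq (by simpa [hF] using Suzuki.prime_dvd_of_fpf_prime hF hm hf ha hy)
  · obtain ⟨-, hcm, hco⟩ := hconj _ _ e
    obtain ⟨l, hl⟩ := orderOf_U_two_pow hF (Suzuki.centralizer_U_le hF hm hu hcm)
    rw [hco] at hl
    exact hb2 ((Nat.prime_dvd_prime_iff_eq hb Nat.prime_two).1 (hb.dvd_of_dvd_pow (dvd_of_eq hl)))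
  · obtain ⟨hko, hcm, hco⟩ := hconj _ _ e
    have h1 : a ∣ 2 ^ (2 * m + 1) - 1 := hko ▸ orderOf_T_dvd hF ⟨k, rfl⟩
    refine hbq (fun e2 => ?_) (hco ▸ orderOf_T_dvd hF (Suzuki.centralizer_T_le hF hm hk hcm))
    rw [e2] at h1
    have : 1 ≤ 2 ^ (2 * m + 1) := Nat.one_le_pow _ _ two_pos
    have : 2 ∣ 2 ^ (2 * m + 1) := dvd_pow_self 2 (by omega)
    omega

end model

theorem three_not_dvd_sz_order (m : ℕ) :
    ¬ 3 ∣ (2 ^ (2 * m + 1)) ^ 2 * ((2 ^ (2 * m + 1)) ^ 2 + 1) * (2 ^ (2 * m + 1) - 1) := by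
  have h2 : 2 ^ (2 * m + 1) % 3 = 2 := by
    rw [pow_succ, pow_mul, Nat.mul_mod, Nat.pow_mod]
    norm_num
  generalize 2 ^ (2 * m + 1) = q at h2 ⊢
  have h1 : q ^ 2 % 3 = 1 := by rw [Nat.pow_mod, h2]
  intro h
  rcases Nat.prime_three.dvd_mul.1 h with h | h
  · rcases Nat.prime_three.dvd_mul.1 h with h | h <;> omega
  · omega

theorem three_dvd_card_psl_two (F : Type*) [Field F] [Fintype F] :
    3 ∣ Nat.card (Matrix.ProjectiveSpecialLinearGroup (Fin 2) F) := by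
  have h := LinearGroup.gcd_mul_card_PSL_two (F := F)
  set q := Nat.card F
  have h3 : 3 ∣ q * (q ^ 2 - 1) := by
    by_cases hq : 3 ∣ q
    · exact hq.mul_right _
    · refine dvd_mul_of_dvd_right ?_ _
      have : q ^ 2 % 3 = 1 := by
        rw [Nat.pow_mod]
        rcases (by omega : q % 3 = 1 ∨ q % 3 = 2) with e | e <;> rw [e]
      omega
  rw [← h] at h3
  refine (Nat.Coprime.dvd_of_dvd_mul_left ?_ h3)
  exact Nat.Coprime.coprime_dvd_right (Nat.gcd_dvd_left _ _) (by norm_num : Nat.Coprime 3 2)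

/-- The odd primes of `q'^2(q'^2+1)(q'-1)` divide `2^(4n') - 1`. -/
theorem sz_prime {r m : ℕ} (hr : r.Prime) (hr2 : r ≠ 2)
    (h : r ∣ (2 ^ (2 * m + 1)) ^ 2 * ((2 ^ (2 * m + 1)) ^ 2 + 1) * (2 ^ (2 * m + 1) - 1)) :
    r ∣ 2 ^ (4 * (2 * m + 1)) - 1 := by
  rcases hr.dvd_mul.1 h with h | h
  · rcases hr.dvd_mul.1 h with h | h
    · exact absurd ((Nat.prime_dvd_prime_iff_eq hr Nat.prime_two).1
        (hr.dvd_of_dvd_pow (hr.dvd_of_dvd_pow h))) hr2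
    · rw [← pow_mul] at h
      have := h.trans (PGraphCIT.add_one_dvd _)
      rwa [show 2 * ((2 * m + 1) * 2) = 4 * (2 * m + 1) by ring] at this
  · exact PGraphCIT.dvd_pow_sub_of_dvd h (dvd_mul_left _ _)

theorem recognize {G : Type*} [Group G] [Finite G] {F : Type*} [Field F] [Fintype F] {m : ℕ}
    (hm : 1 ≤ m) (hF : Fintype.card F = 2 ^ (2 * m + 1))
    (h : ((∀ r : ℕ, r.Prime → (r ∣ Nat.card ↥(Cfsg.Lie.Sz F (2 ^ (m + 1))) ↔ r ∣ Nat.card G)) ∧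
      (∀ r s : ℕ, r.Prime → s.Prime → r ≠ s →
        ((∃ x : ↥(Cfsg.Lie.Sz F (2 ^ (m + 1))), orderOf x = r * s) ↔
          (∃ y : G, orderOf y = r * s))))) :
    Nonempty (G ⧸ Cfsg.pCore 2 G ≃* ↥(Cfsg.Lie.Sz F (2 ^ (m + 1)))) := by
  classical
  haveI : Fact (Nat.Prime 2) := ⟨Nat.prime_two⟩
  obtain ⟨hdiv, hadj⟩ := h
  set q := 2 ^ (2 * m + 1) with hq
  have hq8 : 8 ≤ q := by
    calc 8 = 2 ^ 3 := rfl
      _ ≤ q := Nat.pow_le_pow_right two_pos (by omega)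
  have hqev : 2 ∣ q := dvd_pow_self 2 (by omega)
  set ε := RankOne.SzBridge.szEquiv hF hm
  have hcard := sz_card hF hm
  have hnoG : ∀ a b : ℕ, a.Prime → b.Prime → a ≠ b →
      (¬ ∃ x : Cfsg.Sz F m, orderOf x = a * b) → ¬ ∃ y : G, orderOf y = a * b := by
    intro a b ha hb hab hno hy
    obtain ⟨x, hx⟩ := (hadj a b ha hb hab).2 hy
    exact hno ⟨ε.symm x, by rw [MulEquiv.orderOf_eq, hx]⟩
  have hq2 : q ∣ q ^ 2 := dvd_pow_self q two_ne_zero
  have hcit : PGraphCIT.IsCIT G := PGraphCIT.IsCIT.of_odd_prime_commute fun s hs hs2 =>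
    hnoG 2 s Nat.prime_two hs (Ne.symm hs2)
      (no_order_mul hF hm Nat.prime_two hs hs2
        (fun hd => by
          have : 2 ∣ q ^ 2 := hqev.trans hq2
          rw [← hq] at hd
          omega) (fun e => absurd rfl e))
  obtain ⟨r, hr, hrq⟩ := Nat.exists_prime_and_dvd (show q - 1 ≠ 1 by omega)
  obtain ⟨s, hs, hsq⟩ := Nat.exists_prime_and_dvd
    (show q ^ 2 + 1 ≠ 1 from by have := pow_pos (show 0 < q by omega) 2; omega)
  have hr2 : r ≠ 2 := by rintro rfl; omega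
  have hs2 : s ≠ 2 := by
    rintro rfl
    have : 2 ∣ q ^ 2 := hqev.trans hq2
    omega
  have hcop : ∀ t : ℕ, t.Prime → t ∣ q - 1 → t ∣ q ^ 2 + 1 → t = 2 := by
    intro t ht h1 h2
    have e : q ^ 2 + 1 = (q - 1) * (q + 1) + 2 := by
      obtain ⟨w, hw⟩ : ∃ w, q = w + 1 := ⟨q - 1, by omega⟩
      rw [hw, Nat.add_sub_cancel]; ring
    rw [e] at h2
    exact (Nat.prime_dvd_prime_iff_eq ht Nat.prime_two).1 ((Nat.dvd_add_right (h1.mul_right _)).1 h2)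
  have hrs : r ≠ s := fun e => hr2 (hcop r hr hrq (e ▸ hsq))
  have hrG : r ∣ Nat.card G := (hdiv r hr).1 (by rw [hcard]; exact hrq.mul_left _)
  have hsG : s ∣ Nat.card G := (hdiv s hs).1 (by rw [hcard]; exact (hsq.mul_left _).mul_right _)
  have h2G : 2 ∣ Nat.card G := (hdiv 2 Nat.prime_two).1
    (by rw [hcard]; exact ((hqev.trans hq2).mul_right _).mul_right _)
  have hns : ¬ Group.IsSolvable G := by
    intro hsol
    have n2 : ∀ t : ℕ, t.Prime → t ≠ 2 → ¬ ∃ x : G, orderOf x = t * 2 := by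
      rintro t ht ht2 ⟨x, hx⟩
      have h2 : orderOf (x ^ t) = 2 := by
        rw [orderOf_pow, hx, Nat.gcd_eq_right (dvd_mul_right t 2), Nat.mul_div_cancel_left _ ht.pos]
      have h3 : orderOf (x ^ 2) = t := by
        rw [orderOf_pow, hx, Nat.gcd_eq_right (dvd_mul_left 2 t), Nat.mul_div_cancel _ two_pos]
      have := hcit.eq_one h2 ((Commute.refl x).pow_pow t 2) (h3 ▸ ht.odd_of_ne_two ht2)
      rw [this, orderOf_one] at h3
      exact ht.ne_one h3.symm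
    have hno : ¬ ∃ x : G, orderOf x = r * s :=
      hnoG r s hr hs hrs (no_order_mul hF hm hr hs hs2 (fun hd => hr2 (hcop r hr hrq hd))
        fun _ hd => hs2 (hcop s hs hd hsq))
    refine Recog71.at_most_one_in_solvable (⊤ : Subgroup G) inferInstance hr hs Nat.prime_two hrs
      hr2 hs2 hno (n2 r hr hr2) (n2 s hs hs2) ?_ ?_ h2G
    · rwa [Subgroup.card_top]
    · rwa [Subgroup.card_top]
  set K := Cfsg.pCore 2 G with hK
  have hKp : IsPGroup 2 K := Thompson.isPGroup_pCore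
  have hX := hcit.quotient K hKp
  have hnsX : ¬ Group.IsSolvable (G ⧸ K) := by
    intro hsol
    have := hKp.isNilpotent
    exact hns (Group.isSolvable_of_ker_le_range K.subtype (QuotientGroup.mk' K)
      (by rw [Subgroup.range_subtype, QuotientGroup.ker_mk']))
  obtain ⟨N, hNn, hNs, hNa, -⟩ := hX.exists_simple hnsX PGraphCIT.pCore_quotient_eq_bot
  haveI := hNn
  haveI := hNs
  have hX3 : ∀ t : ℕ, t.Prime → t ∣ Nat.card (G ⧸ K) →
      t ∣ q ^ 2 * (q ^ 2 + 1) * (q - 1) := fun t ht htd => by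
    rw [← hcard, hdiv t ht, Subgroup.card_eq_card_quotient_mul_card_subgroup K]
    exact htd.mul_right _
  have hab : ∃ a b : N, a * b ≠ b * a := by
    by_contra hc
    exact hNa ⟨⟨fun a b => by_contra fun e => hc ⟨a, b, e⟩⟩⟩
  have h3N : ¬ 3 ∣ Nat.card N := fun h3 =>
    three_not_dvd_sz_order m (hX3 3 Nat.prime_three (h3.trans (card_subgroup_dvd_card N)))
  rcases CIT.classify hab (PGraphCIT.IsCIT.subgroup hX N) with
    ⟨F', iF, iT, -, ⟨e⟩⟩ | ⟨F', iF, iT, h4, ⟨e⟩⟩ | ⟨⟨F', iF, iT, m', hm', hF', ⟨e⟩⟩, -⟩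
  · exact absurd (Nat.card_congr e.toEquiv ▸ three_dvd_card_psl_two F') h3N
  · refine absurd ?_ h3N
    rw [Nat.card_congr e.toEquiv]
    have hg := LinearGroup.gcd_mul_card_PSL (F := F') (n := Fin 3)
    rw [LinearGroup.card_SL_eq_pow_mul_prod 2, Nat.card_eq_fintype_card (α := F'), h4,
      Fintype.card_fin] at hg
    simp [Fin.sum_univ_succ, Finset.prod_range_succ] at hg
    rw [← Nat.card_eq_fintype_card] at hg
    omega
  set e' : N ≃* Cfsg.Sz F' m' := e.trans (RankOne.SzBridge.szEquiv hF' hm').symm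
  have hNtop : N = ⊤ := eq_top_of_suzuki hX N hm' hF' e'
  have hcX : Nat.card (G ⧸ K) =
      (2 ^ (2 * m' + 1)) ^ 2 * ((2 ^ (2 * m' + 1)) ^ 2 + 1) * (2 ^ (2 * m' + 1) - 1) := by
    rw [← Suzuki.card_Sz hF' hm', ← Nat.card_congr e'.toEquiv, hNtop, card_top]
  have hX3' : ∀ t : ℕ, t.Prime → t ≠ 2 → (t ∣ q ^ 2 * (q ^ 2 + 1) * (q - 1) ↔
      t ∣ (2 ^ (2 * m' + 1)) ^ 2 * ((2 ^ (2 * m' + 1)) ^ 2 + 1) * (2 ^ (2 * m' + 1) - 1)) := by
    intro t ht ht2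
    rw [← hcard, hdiv t ht, ← hcX, Subgroup.card_eq_card_quotient_mul_card_subgroup K, ht.dvd_mul]
    refine or_iff_left fun h1 => ?_
    obtain ⟨v, hv⟩ := hKp.exists_card_eq
    exact ht2 ((Nat.prime_dvd_prime_iff_eq ht Nat.prime_two).1 (ht.dvd_of_dvd_pow (hv ▸ h1)))
  have hprim : ∀ j : ℕ, 1 ≤ j → ∃ p : ℕ, p.Prime ∧ p ≠ 2 ∧
      p ∣ (2 ^ (2 * j + 1)) ^ 2 * ((2 ^ (2 * j + 1)) ^ 2 + 1) * (2 ^ (2 * j + 1) - 1) ∧
      ∀ k, p ∣ 2 ^ k - 1 → 4 * (2 * j + 1) ∣ k := by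
    intro j hj
    obtain ⟨p, hp, hp2, hpd, hpk⟩ :=
      PGraphCIT.exists_prim (n := 4 * (2 * j + 1)) (by omega) (by omega)
    refine ⟨p, hp, hp2, dvd_mul_of_dvd_left (dvd_mul_of_dvd_right ?_ _) _, hpk⟩
    have e1 : 2 ^ (4 * (2 * j + 1)) - 1 =
        (2 ^ (2 * (2 * j + 1)) + 1) * (2 ^ (2 * (2 * j + 1)) - 1) := by
      rw [← Nat.sq_sub_sq, one_pow, ← pow_mul]
      ring_nf
    rw [e1] at hpd
    rcases hp.dvd_mul.1 hpd with h1 | h1
    · rwa [← pow_mul, mul_comm (2 * j + 1) 2]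
    · have := Nat.le_of_dvd (by omega) (hpk _ h1)
      omega
  obtain ⟨p, hp, hp2, hpd, hpk⟩ := hprim m hm
  obtain ⟨p', hp', hp2', hpd', hpk'⟩ := hprim m' hm'
  have d1 := hpk _ (sz_prime hp hp2 ((hX3' p hp hp2).1 hpd))
  have d2 := hpk' _ (sz_prime hp' hp2' ((hX3' p' hp' hp2').2 hpd'))
  obtain rfl : m = m' := by
    have := Nat.dvd_antisymm d1 d2
    omega
  obtain ⟨c⟩ := nonempty_szCongr (FiniteField.ringEquivOfCardEq (hF'.trans hF.symm) : F' ≃+* F)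
    (2 ^ (m + 1))
  exact ⟨topEquiv.symm.trans (((MulEquiv.subgroupCongr hNtop.symm).trans e).trans c)⟩

end Cfsg.Agent.CNCit80
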